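import Cfsg.Agent.Lib.InvE.Tree

/-!
# The ranks of `y - 1` for the two classes of involutions of `²F₄`
-/

set_option autoImplicit false
set_option linter.unusedSectionVars false
set_option linter.unusedVariables false
set_option maxRecDepth 100000

namespace Cfsg.Agent.Lib.F24.InvRank

open Cfsg.Lie Cfsg.Agent.Lib.InvE.Tree

def RBA : List ℕ := [0x38, 0x20, 0xa00, 0x800, 0x6000, 0x4000, 0xa40000, 0x800000, 0x6000052100000, 0x2000018000000, 0x10000000, 0x48000000, 0x1a0000000, 0x100000000, 0x2800000000, 0x2000000000, 0x18000000000, 0x10000000000, 0x700000000000, 0x400000000000, 0x50000000]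
def RCA : List ℕ := [0x0, 0x1, 0x2, 0x0, 0x0, 0x0, 0x0, 0x4, 0x8, 0x0, 0x10, 0x0, 0x20, 0x0, 0x0, 0x40, 0x80, 0x100, 0x0, 0x200, 0x400, 0x0, 0x800, 0x0, 0x1000, 0x0, 0x2000, 0x0, 0x0, 0x0, 0x0, 0x0, 0x0, 0x4000, 0x8000, 0x0, 0x10000, 0x0, 0x20000, 0x0, 0x0, 0x0, 0x40000, 0x80000, 0x0, 0x0, 0x0, 0x0, 0x400, 0x0, 0x400, 0x100000]
def RDA : List ℕ := [0x0, 0x0, 0x0, 0x3, 0x0, 0x2, 0x0, 0x0, 0x0, 0xc, 0x0, 0x8, 0x0, 0x30, 0x20, 0x0, 0x0, 0x0, 0xc0, 0x0, 0xb00, 0x0, 0x0, 0x80, 0x0, 0x0, 0x0, 0x100c00, 0x400, 0x3000, 0x100400, 0x0, 0x2000, 0x0, 0x0, 0xc000, 0x0, 0x8000, 0x0, 0x30000, 0x20000, 0x0, 0x0, 0x0, 0xc0000, 0x0, 0x80000, 0x0, 0x0, 0x100a00, 0x0, 0x0]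
def REA : List ℕ := [0x2, 0x4, 0x80, 0x100, 0x400, 0x1000, 0x8000, 0x10000, 0x20000, 0x80000, 0x100000, 0x400000, 0x1000000, 0x4000000, 0x200000000, 0x400000000, 0x1000000000, 0x4000000000, 0x40000000000, 0x80000000000, 0x8000000000000]
def RBB : List ℕ := [0x2, 0x80, 0x8100, 0x30640, 0x20400, 0x400, 0xc1000, 0x80000, 0x100000, 0x1000200000000, 0x400000, 0x8000001000000, 0x4000000, 0x400000000, 0x1820000000, 0x1000000000, 0x66080000000, 0x44000000000, 0x88000000000, 0x4000000000, 0x100000000000, 0x800000000000, 0x200000000, 0x1000000]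
def RCB : List ℕ := [0x1, 0x0, 0x0, 0x2, 0x4, 0x8, 0x10, 0x0, 0x0, 0x20, 0x0, 0x40, 0x80, 0x100, 0x200, 0x0, 0x30, 0x0, 0x80, 0x0, 0x0, 0x400, 0x0, 0x800, 0x0, 0x1000, 0x0, 0x2000, 0x4000, 0x8000, 0x10000, 0x20000, 0x40000, 0x0, 0x0, 0x8000, 0x0, 0x80000, 0x0, 0x0, 0x100000, 0xa0000, 0x0, 0x0, 0x0, 0x0, 0x200000, 0x0, 0x0, 0x400000, 0x800000, 0x0]
def RDB : List ℕ := [0x0, 0x1, 0x0, 0x0, 0x0, 0x0, 0x18, 0x2, 0x4, 0x0, 0x20, 0x0, 0xc0, 0x0, 0x0, 0x0, 0x0, 0x30, 0x0, 0x80, 0x100, 0x0, 0x400, 0x0, 0x800000, 0x0, 0x1000, 0x0, 0x0, 0xc000, 0x0, 0x30000, 0x0, 0x400000, 0x2000, 0x0, 0x8000, 0x0, 0x80000, 0x40000, 0x0, 0x0, 0xa0000, 0x0, 0x100000, 0x0, 0x0, 0x200000, 0x400200, 0x0, 0x0, 0x800800]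
def REB : List ℕ := [0x1, 0x8, 0x10, 0x20, 0x40, 0x200, 0x800, 0x1000, 0x2000, 0x4000, 0x200000, 0x800000, 0x2000000, 0x8000000, 0x10000000, 0x20000000, 0x40000000, 0x80000000, 0x100000000, 0x2000000000, 0x10000000000, 0x400000000000, 0x2000000000000, 0x4000000000000]

theorem rkA : rankChk chevF4 [28, 30] RBA RCA RDA REA 21 = true := by decide +kernel
theorem rkB : rankChk chevF4 [33, 24] RBB RCB RDB REB 24 = true := by decide +kernel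
theorem sqA : sqChk chevF4 [28, 30] = true := by decide +kernel
theorem sqB : sqChk chevF4 [33, 24] = true := by decide +kernel
theorem ltA : ∀ u ∈ ([28, 30] : List ℕ), u < chevF4.nroots := by decide +kernel
theorem ltB : ∀ u ∈ ([33, 24] : List ℕ), u < chevF4.nroots := by decide +kernel

end Cfsg.Agent.Lib.F24.InvRank
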